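import Cfsg.Agent.Lib.Recog.SporBound.Fi22Outer.StructChecks
import Cfsg.Agent.Lib.Schur.Coxeter.OmegaData

set_option autoImplicit false
set_option maxRecDepth 20000
set_option Elab.async false

/-! Kernel checks for the fixed group of the first representative (owner: helper24; split by helper18). -/

namespace CfsgLib.Recog.SporBound.Fi22Outer

open CfsgLib.Recog.SporBound.Fi22Pair
open CfsgLib.Schur.Cox
open CfsgLib.Schur.Cox.OmegaEight (vec8 nonsing nonsing_spec)
open scoped Matrix

/-- The eight generating rows with the permutations of their reflections. -/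
noncomputable def labelEightOK : Bool :=
  (List.range 8).all fun i => (List.range 120).all fun k =>
    let j := nonsing.idxOf (refC (([17, 34, 35, 70, 42, 136, 76, 38] : List ℕ).getD i 0) (nonsing.getD k 0))
    Nat.blt j 120 && Nat.beq (ev (false, [genEight.getD i 0]) (rows360.getD k 0)) (rows360.getD j 0)

/-- The label check of one generating row. -/
noncomputable def labelEightAt (i : ℕ) : Bool :=
  (List.range 120).all fun k =>
    let j := nonsing.idxOf (refC (([17, 34, 35, 70, 42, 136, 76, 38] : List ℕ).getD i 0) (nonsing.getD k 0))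
    Nat.blt j 120 && Nat.beq (ev (false, [genEight.getD i 0]) (rows360.getD k 0)) (rows360.getD j 0)

theorem label_eight0 : labelEightAt 0 = true := by decide +kernel

theorem label_eight1 : labelEightAt 1 = true := by decide +kernel

theorem label_eight2 : labelEightAt 2 = true := by decide +kernel

theorem label_eight3 : labelEightAt 3 = true := by decide +kernel

theorem label_eight4 : labelEightAt 4 = true := by decide +kernel

theorem label_eight5 : labelEightAt 5 = true := by decide +kernel

theorem label_eight6 : labelEightAt 6 = true := by decide +kernel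

theorem label_eight7 : labelEightAt 7 = true := by decide +kernel

theorem label_eight : labelEightOK = true := by
  rw [labelEightOK, List.all_eq_true]
  intro i hi
  show labelEightAt i = true
  rw [List.mem_range] at hi
  interval_cases i
  exacts [label_eight0, label_eight1, label_eight2, label_eight3, label_eight4, label_eight5, label_eight6, label_eight7]

theorem refC_vec0 : ∀ k : Fin 120,
    vec8 (refC (([17, 34, 35, 70, 42, 136, 76, 38] : List ℕ).getD 0 0) (nonsing.getD k.val 0)) =
      OmegaEight.mat (OmegaEight.r (0 : Fin 8)) *ᵥ vec8 (nonsing.getD k.val 0) := by decide +kernel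

theorem refC_vec1 : ∀ k : Fin 120,
    vec8 (refC (([17, 34, 35, 70, 42, 136, 76, 38] : List ℕ).getD 1 0) (nonsing.getD k.val 0)) =
      OmegaEight.mat (OmegaEight.r (1 : Fin 8)) *ᵥ vec8 (nonsing.getD k.val 0) := by decide +kernel

theorem refC_vec2 : ∀ k : Fin 120,
    vec8 (refC (([17, 34, 35, 70, 42, 136, 76, 38] : List ℕ).getD 2 0) (nonsing.getD k.val 0)) =
      OmegaEight.mat (OmegaEight.r (2 : Fin 8)) *ᵥ vec8 (nonsing.getD k.val 0) := by decide +kernel

theorem refC_vec3 : ∀ k : Fin 120,
    vec8 (refC (([17, 34, 35, 70, 42, 136, 76, 38] : List ℕ).getD 3 0) (nonsing.getD k.val 0)) =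
      OmegaEight.mat (OmegaEight.r (3 : Fin 8)) *ᵥ vec8 (nonsing.getD k.val 0) := by decide +kernel

theorem refC_vec4 : ∀ k : Fin 120,
    vec8 (refC (([17, 34, 35, 70, 42, 136, 76, 38] : List ℕ).getD 4 0) (nonsing.getD k.val 0)) =
      OmegaEight.mat (OmegaEight.r (4 : Fin 8)) *ᵥ vec8 (nonsing.getD k.val 0) := by decide +kernel

theorem refC_vec5 : ∀ k : Fin 120,
    vec8 (refC (([17, 34, 35, 70, 42, 136, 76, 38] : List ℕ).getD 5 0) (nonsing.getD k.val 0)) =
      OmegaEight.mat (OmegaEight.r (5 : Fin 8)) *ᵥ vec8 (nonsing.getD k.val 0) := by decide +kernel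

theorem refC_vec6 : ∀ k : Fin 120,
    vec8 (refC (([17, 34, 35, 70, 42, 136, 76, 38] : List ℕ).getD 6 0) (nonsing.getD k.val 0)) =
      OmegaEight.mat (OmegaEight.r (6 : Fin 8)) *ᵥ vec8 (nonsing.getD k.val 0) := by decide +kernel

theorem refC_vec7 : ∀ k : Fin 120,
    vec8 (refC (([17, 34, 35, 70, 42, 136, 76, 38] : List ℕ).getD 7 0) (nonsing.getD k.val 0)) =
      OmegaEight.mat (OmegaEight.r (7 : Fin 8)) *ᵥ vec8 (nonsing.getD k.val 0) := by decide +kernel

theorem refC_vec : ∀ i : Fin 8, ∀ k : Fin 120,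
    vec8 (refC (([17, 34, 35, 70, 42, 136, 76, 38] : List ℕ).getD i.val 0) (nonsing.getD k.val 0)) =
      OmegaEight.mat (OmegaEight.r i) *ᵥ vec8 (nonsing.getD k.val 0) := by
  intro i
  fin_cases i
  exacts [refC_vec0, refC_vec1, refC_vec2, refC_vec3, refC_vec4, refC_vec5, refC_vec6, refC_vec7]

/-- The code of a vector. -/
def code8 (v : Fin 4 ⊕ Fin 4 → ZMod 2) : ℕ :=
  (v (.inl 0)).val + 2 * (v (.inl 1)).val + 4 * (v (.inl 2)).val + 8 * (v (.inl 3)).val +
    16 * (v (.inr 0)).val + 32 * (v (.inr 1)).val + 64 * (v (.inr 2)).val + 128 * (v (.inr 3)).val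

theorem code8_nonsing : ∀ k : Fin 120, code8 (vec8 (nonsing.getD k.val 0)) = nonsing.getD k.val 0 := by
  decide +kernel

theorem nonsing_fit : nonsing.length = 120 ∧ nonsing.Nodup ∧
    (∀ k : Fin 120, Cfsg.quadFormPlus 4 (ZMod 2) (vec8 (nonsing.getD k.val 0)) = 1) ∧
    (∀ k l : Fin 120, vec8 (nonsing.getD k.val 0) = vec8 (nonsing.getD l.val 0) → k = l) := by
  have h1 : nonsing.length = 120 := by decide +kernel
  have h2 : nonsing.Nodup := by decide +kernel
  refine ⟨h1, h2, by decide +kernel, fun k l e => ?_⟩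
  have h := congrArg code8 e
  rw [code8_nonsing, code8_nonsing, List.getD_eq_getElem _ _ (by omega), List.getD_eq_getElem _ _ (by omega)] at h
  exact Fin.ext ((h2.getElem_inj_iff).1 h)

theorem span_eight : ∀ c : Fin 4 ⊕ Fin 4, Cfsg.quadFormPlus 4 (ZMod 2) (Pi.single c 1) = 1 ∨
    ∃ a : Fin 120, Cfsg.quadFormPlus 4 (ZMod 2) (Pi.single c 1 + vec8 (nonsing.getD a.val 0)) = 1 := by
  decide +kernel

end CfsgLib.Recog.SporBound.Fi22Outer
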